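import Groth.Agent.Lib.ModFlat16.Factor
import Groth.Agent.Lib.ModFlat16.LocFT
import Groth.Prelude.Def_AlgSpPerf

/-! Maps between restrictions: further restriction, local lifting out of summands of free modules. -/

set_option autoImplicit false
set_option linter.style.haveILetI false
set_option linter.unusedSectionVars false
set_option backward.isDefEq.respectTransparency false
set_option backward.isDefEq.respectTransparency.types false

universe u

open CategoryTheory CategoryTheory.Limits Opposite

noncomputable section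

namespace Groth.Agent.SiteSP16

open Groth.Agent.ModFlat16

variable {C : Type u} [SmallCategory C] {J : GrothendieckTopology C} {O : Sheaf J CommRingCat.{u}}

instance additive_overRestr {V W : C} (g : W ⟶ V) : (overRestr O g).Additive :=
  Functor.additive_of_preserves_binary_products _

/-- Further restriction of a map between restrictions. -/
def res {V W : C} (g : W ⟶ V) {A B : ModSite.Mod O}
    (φ : (ModSite.restr O V).obj A ⟶ (ModSite.restr O V).obj B) :
    (ModSite.restr O W).obj A ⟶ (ModSite.restr O W).obj B :=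
  (overRestrIso O g).inv.app A ≫ (overRestr O g).map φ ≫ (overRestrIso O g).hom.app B

theorem res_map {V W : C} (g : W ⟶ V) {A B : ModSite.Mod O} (f : A ⟶ B) :
    res g ((ModSite.restr O V).map f) = (ModSite.restr O W).map f :=
  NatIso.naturality_1 (overRestrIso O g) f

theorem res_comp {V W : C} (g : W ⟶ V) {A B D : ModSite.Mod O}
    (φ : (ModSite.restr O V).obj A ⟶ (ModSite.restr O V).obj B)
    (ψ : (ModSite.restr O V).obj B ⟶ (ModSite.restr O V).obj D) :
    res g (φ ≫ ψ) = res g φ ≫ res g ψ := by
  simp only [res, Functor.map_comp, Category.assoc, Iso.hom_inv_id_app_assoc]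

theorem res_add {V W : C} (g : W ⟶ V) {A B : ModSite.Mod O}
    (φ ψ : (ModSite.restr O V).obj A ⟶ (ModSite.restr O V).obj B) :
    res g (φ + ψ) = res g φ + res g ψ := by
  simp only [res, Functor.map_add, Preadditive.add_comp, Preadditive.comp_add]

theorem res_zero {V W : C} (g : W ⟶ V) (A B : ModSite.Mod O) :
    res g (0 : (ModSite.restr O V).obj A ⟶ (ModSite.restr O V).obj B) = 0 := by
  simp only [res, Functor.map_zero, zero_comp, comp_zero]

theorem res_app {V W : C} (g : W ⟶ V) {A B : ModSite.Mod O}
    (φ : (ModSite.restr O V).obj A ⟶ (ModSite.restr O V).obj B) (X : Over W)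
    (x : A.val.obj (op X.left)) :
    (res g φ).val.app (op X) x = φ.val.app (op ((Over.map g).obj X)) x := rfl

theorem app_congr {V : C} {A B : ModSite.Mod O}
    (φ : (ModSite.restr O V).obj A ⟶ (ModSite.restr O V).obj B) {Z : C} {a b : Z ⟶ V} (h : a = b)
    (x : A.val.obj (op Z)) :
    φ.val.app (op (Over.mk a)) x = φ.val.app (op (Over.mk b)) x := by subst h; rfl

theorem res_res {V W W' : C} (g : W ⟶ V) (h : W' ⟶ W) {A B : ModSite.Mod O}
    (φ : (ModSite.restr O V).obj A ⟶ (ModSite.restr O V).obj B) :
    res h (res g φ) = res (h ≫ g) φ := by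
  apply SheafOfModules.Hom.ext
  apply PresheafOfModules.hom_ext
  intro X
  refine ModuleCat.hom_ext (LinearMap.ext fun x => ?_)
  show (res h (res g φ)).val.app (op X.unop) x = (res (h ≫ g) φ).val.app (op X.unop) x
  rw [res_app, res_app, res_app]
  exact app_congr φ (Category.assoc X.unop.hom h g) x

theorem topVal_res {V W : C} (g : W ⟶ V) {F : ModSite.Mod O}
    (χ : SheafOfModules.unit (ModSite.ringSh (O.over V)) ⟶ (ModSite.restr O V).obj F) :
    topVal (U := W) (res g (A := ModSite.unit O) χ) = smap F g (topVal χ) :=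
  Eq.trans rfl (topVal_overRestr_iso g χ)

/-- Maps out of restricted summands of finite free modules lift locally along epimorphisms. -/
theorem exists_res_lift {E F G : ModSite.Mod O} {n : ℕ}
    (i : E ⟶ SheafOfModules.free (R := ModSite.ringSh O) (ULift.{u} (Fin n)))
    (π : SheafOfModules.free (R := ModSite.ringSh O) (ULift.{u} (Fin n)) ⟶ E) (hi : i ≫ π = 𝟙 E)
    (p : G ⟶ F) [Epi p] {V : C} (φ : (ModSite.restr O V).obj E ⟶ (ModSite.restr O V).obj F) :
    ∃ S ∈ J V, ∀ ⦃W : C⦄ (g : W ⟶ V), S g →
      ∃ l : (ModSite.restr O W).obj E ⟶ (ModSite.restr O W).obj G,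
        l ≫ (ModSite.restr O W).map p = res g φ := by
  let ψ := (ModSite.restr O V).map π ≫ φ
  obtain ⟨T, hT, hpre⟩ := cov_iInter' (J := J) (fun a : ULift.{u} (Fin n) =>
    ExtSupp8.exists_local_preimage p
      (topVal ((ModSite.restr O V).map (SheafOfModules.ιFree (R := ModSite.ringSh O) a) ≫ ψ)))
  refine ⟨T, hT, fun W g hg => ?_⟩
  choose y hy using fun a => hpre a g hg
  let e' := SheafOfModules.mapFreeIso (R := ModSite.ringSh O) (ModSite.restr O W) (ULift.{u} (Fin n))
    (Iso.refl _)
  let m := freeTo (N := (ModSite.restr O W).obj G) y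
  refine ⟨(ModSite.restr O W).map i ≫ e'.inv ≫ m, ?_⟩
  have key : m ≫ (ModSite.restr O W).map p = e'.hom ≫ res g ψ := by
    refine Cofan.IsColimit.hom_ext (SheafOfModules.isColimitFreeCofan _) _ _ fun a => topVal_inj ?_
    show topVal (fι a ≫ m ≫ (ModSite.restr O W).map p) = topVal (fι a ≫ e'.hom ≫ res g ψ)
    have e1 : fι (O := O) (U := W) a ≫ e'.hom = (ModSite.restr O W).map
        (SheafOfModules.ιFree (R := ModSite.ringSh O) a) := by
      refine (SheafOfModules.ιFree_mapFreeIso_hom (R := ModSite.ringSh O) (ModSite.restr O W)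
        (ULift.{u} (Fin n)) (Iso.refl _) a).trans ?_
      exact Category.id_comp _
    rw [← Category.assoc (fι a) e'.hom, e1, ← res_map g (SheafOfModules.ιFree (R := ModSite.ringSh O) a),
      ← res_comp]
    refine Eq.trans ?_ (topVal_res g _).symm
    rw [← Category.assoc, topVal_comp]
    dsimp only [m]
    rw [topVal_ιFree_freeTo]
    exact hy a
  rw [Category.assoc, Category.assoc, key, Iso.inv_hom_id_assoc]
  show (ModSite.restr O W).map i ≫ res g ((ModSite.restr O V).map π ≫ φ) = _
  rw [res_comp, res_map, ← Category.assoc, ← Functor.map_comp, hi, CategoryTheory.Functor.map_id,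
    Category.id_comp]

end Groth.Agent.SiteSP16
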