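import Groth.Agent.Lib.SiteSP16.Lift
import Mathlib.Algebra.Homology.HomotopyCategory.MappingCone
import Mathlib.Algebra.Homology.DerivedCategory.HomologySequence
import Mathlib.Algebra.Homology.DerivedCategory.Fractions

/-! Local null-homotopies and lifts out of strictly perfect complexes on ringed sites. -/

set_option autoImplicit false
set_option linter.style.haveILetI false
set_option linter.unusedSectionVars false
set_option backward.isDefEq.respectTransparency false
set_option backward.isDefEq.respectTransparency.types false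

universe w v u

open CategoryTheory CategoryTheory.Limits Opposite CochainComplex.HomComplex

noncomputable section

namespace Groth.Agent.SiteSP16

open Groth.Agent.ModFlat16

/-- From a null-homotopy into the mapping cone, a lift up to homotopy. -/
theorem exists_lift_of_cone {A : Type*} [Category A] [Preadditive A] [HasBinaryBiproducts A]
    {E F G : CochainComplex A ℤ} (a : E ⟶ F)
    (g : G ⟶ F) (H : Homotopy (a ≫ CochainComplex.mappingCone.inr g) 0) :
    ∃ β : E ⟶ G, Nonempty (Homotopy (β ≫ g) a) := by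
  let z : Cochain E (CochainComplex.mappingCone g) (-1) := Cochain.ofHomotopy H
  have hz : δ (-1) 0 z = Cochain.ofHom (a ≫ CochainComplex.mappingCone.inr g) := by
    simp [z]
  let w : Cochain E G 0 := z.comp (CochainComplex.mappingCone.fst g).1 (neg_add_cancel 1)
  have hw : δ 0 1 w = 0 := by
    rw [δ_comp z _ (neg_add_cancel 1) 0 2 1 (zero_add 1) (neg_add_cancel 1) (by norm_num), hz,
      Cocycle.δ_eq_zero, Cochain.comp_zero, zero_add, Cochain.ofHom_comp,
      Cochain.comp_assoc_of_first_is_zero_cochain, CochainComplex.mappingCone.inr_fst,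
      Cochain.comp_zero, smul_zero]
  let β : E ⟶ G := Cocycle.homOf (Cocycle.mk w 1 (zero_add 1) hw)
  have hβ : Cochain.ofHom β = w := Cocycle.cochain_ofHom_homOf_eq_coe _
  let v : Cochain E F (-1) := z.comp (CochainComplex.mappingCone.snd g) (add_zero (-1))
  have hv : δ (-1) 0 v = Cochain.ofHom a - Cochain.ofHom (β ≫ g) := by
    rw [δ_comp_zero_cochain z _ 0 (neg_add_cancel 1), hz, CochainComplex.mappingCone.δ_snd,
      Cochain.comp_neg, ← Cochain.comp_assoc_of_third_is_zero_cochain, Cochain.ofHom_comp,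
      Cochain.comp_assoc_of_first_is_zero_cochain, CochainComplex.mappingCone.inr_snd,
      Cochain.comp_id, Cochain.ofHom_comp, hβ]
    exact neg_add_eq_sub _ _
  exact ⟨β, ⟨(Cochain.equivHomotopy _ _).symm ⟨-v, by rw [δ_neg, hv]; abel⟩⟩⟩

theorem exactAt_mappingCone {A : Type u} [Category.{v} A] [Abelian A] {G F : CochainComplex A ℤ}
    (f : G ⟶ F) (a : ℤ) (hf : ∀ j : ℤ, a < j → IsIso (HomologicalComplex.homologyMap f j))
    (hfa : Epi (HomologicalComplex.homologyMap f a)) (i : ℤ) (hi : a ≤ i) :
    (CochainComplex.mappingCone f).ExactAt i := by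
  letI := HasDerivedCategory.standard A
  have hmono : Mono (HomologicalComplex.homologyMap f (i + 1)) := have := hf (i + 1) (by omega); inferInstance
  have hepi : Epi (HomologicalComplex.homologyMap f i) := by
    rcases eq_or_lt_of_le hi with rfl | h
    · exact hfa
    · have := hf i h; infer_instance
  have hT := DerivedCategory.mappingCone_triangle_distinguished f
  let η := DerivedCategory.homologyFunctorFactors A
  have hnat : ∀ k, Arrow.mk ((DerivedCategory.homologyFunctor A k).map (DerivedCategory.Q.map f)) ≅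
      Arrow.mk (HomologicalComplex.homologyMap f k) := fun k =>
    ((Functor.mapArrowFunctor _ _).mapIso (η k)).app (Arrow.mk f)
  have h1 : Epi ((DerivedCategory.homologyFunctor A i).map (DerivedCategory.Q.map f)) :=
    ((MorphismProperty.epimorphisms _).arrow_mk_iso_iff (hnat i)).2 hepi
  have h2 : Mono ((DerivedCategory.homologyFunctor A (i + 1)).map (DerivedCategory.Q.map f)) :=
    ((MorphismProperty.monomorphisms _).arrow_mk_iso_iff (hnat (i + 1))).2 hmono
  rw [HomologicalComplex.exactAt_iff_isZero_homology]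
  refine IsZero.of_iso ?_ ((η i).app (CochainComplex.mappingCone f)).symm
  refine (DerivedCategory.HomologySequence.exact₃ _ hT i (i + 1) rfl).isZero_of_both_zeros ?_ ?_
  · exact (DerivedCategory.HomologySequence.epi_homologyMap_mor₁_iff _ hT i).1 h1
  · exact (DerivedCategory.HomologySequence.mono_homologyMap_mor₁_iff _ hT i (i + 1) rfl).1 h2

variable {C : Type u} [SmallCategory C] {J : GrothendieckTopology C} {O : Sheaf J CommRingCat.{u}}

instance additive_restr (V : C) : (ModSite.restr O V).Additive :=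
  Functor.additive_of_preserves_binary_products _

/-- Termwise restriction. -/
abbrev R (O : Sheaf J CommRingCat.{u}) (V : C) :
    CochainComplex (ModSite.Mod O) ℤ ⥤ CochainComplex (ModSite.Mod (O.over V)) ℤ :=
  (ModSite.restr O V).mapHomologicalComplex (ComplexShape.up ℤ)

/-- Further restriction of a chain map between restrictions. -/
def cres {V W : C} (g : W ⟶ V) {E F : CochainComplex (ModSite.Mod O) ℤ}
    (α : (R O V).obj E ⟶ (R O V).obj F) : (R O W).obj E ⟶ (R O W).obj F where
  f i := res g (α.f i)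
  comm' i j _ := by
    show res g (α.f i) ≫ (ModSite.restr O W).map (F.d i j) =
      (ModSite.restr O W).map (E.d i j) ≫ res g (α.f j)
    rw [← res_map g (F.d i j), ← res_map g (E.d i j), ← res_comp, ← res_comp]
    exact congrArg (res g) (α.comm i j)

theorem cres_map {V W : C} (g : W ⟶ V) {E F : CochainComplex (ModSite.Mod O) ℤ} (α : E ⟶ F) :
    cres g ((R O V).map α) = (R O W).map α :=
  HomologicalComplex.hom_ext _ _ fun i => res_map g (α.f i)

theorem cres_cres {V W W' : C} (g : W ⟶ V) (h : W' ⟶ W) {E F : CochainComplex (ModSite.Mod O) ℤ}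
    (α : (R O V).obj E ⟶ (R O V).obj F) : cres h (cres g α) = cres (h ≫ g) α :=
  HomologicalComplex.hom_ext _ _ fun i => res_res g h (α.f i)

/-- Homotopies restrict. -/
def cresHomotopy {V W : C} (g : W ⟶ V) {E F : CochainComplex (ModSite.Mod O) ℤ}
    {α β : (R O V).obj E ⟶ (R O V).obj F} (H : Homotopy α β) : Homotopy (cres g α) (cres g β) where
  hom i j := res g (H.hom i j)
  zero i j hij := by
    show res g (H.hom i j) = 0
    rw [H.zero i j hij]
    exact res_zero g _ _
  comm i := by
    rw [dNext_eq _ (show (ComplexShape.up ℤ).Rel i (i + 1) from rfl),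
      prevD_eq _ (show (ComplexShape.up ℤ).Rel (i - 1) i by simp)]
    show res g (α.f i) = (ModSite.restr O W).map (E.d i (i + 1)) ≫ res g (H.hom (i + 1) i) +
      res g (H.hom i (i - 1)) ≫ (ModSite.restr O W).map (F.d (i - 1) i) + res g (β.f i)
    rw [← res_map g (E.d i (i + 1)), ← res_map g (F.d (i - 1) i), ← res_comp, ← res_comp, ← res_add,
      ← res_add]
    refine congrArg (res g) ((H.comm i).trans ?_)
    rw [dNext_eq _ (show (ComplexShape.up ℤ).Rel i (i + 1) from rfl),
      prevD_eq _ (show (ComplexShape.up ℤ).Rel (i - 1) i by simp)]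
    rfl

theorem exists_nullHomotopic_aux {E F : CochainComplex (ModSite.Mod O) ℤ}
    (hE : ∀ i, DCoh.IsFinFreeSummandMod (ModSite.ringSh O) (E.X i))
    (a : ℤ) (hEa : ∀ i, i < a → IsZero (E.X i)) (hF : ∀ i, a ≤ i → F.ExactAt i) (k : ℕ) :
    ∀ {V : C} (α : (R O V).obj E ⟶ (R O V).obj F), (∀ i, a + k ≤ i → α.f i = 0) →
      ∃ S ∈ J V, ∀ ⦃W : C⦄ (g : W ⟶ V), S g → Nonempty (Homotopy (cres g α) 0) := by
  induction k with
  | zero =>
    intro V α hα
    refine ⟨⊤, J.top_mem V, fun W g _ => ⟨Homotopy.ofEq ?_⟩⟩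
    ext1 i
    rcases lt_or_ge i a with h | h
    · exact ((ModSite.restr O W).map_isZero (hEa i h)).eq_of_src _ _
    · show res g (α.f i) = 0
      rw [hα i (by simpa using h)]
      exact res_zero g _ _
  | succ k ih =>
    intro V α hα
    obtain ⟨i₀, hi₀⟩ : ∃ i₀, i₀ = a + k := ⟨_, rfl⟩
    have h0 : α.f i₀ ≫ (ModSite.restr O V).map (F.d i₀ (i₀ + 1)) = 0 := by
      have h := α.comm i₀ (i₀ + 1)
      rw [hα (i₀ + 1) (by omega), comp_zero] at h
      exact h
    have : Epi (F.toCycles (i₀ - 1) i₀) := by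
      refine Preadditive.epi_of_cancel_zero _ fun g hg => ?_
      obtain ⟨l, hl⟩ := CokernelCofork.IsColimit.desc' (F.homologyIsCokernel (i₀ - 1) i₀ (by simp)) g hg
      rw [← hl, (hF i₀ (by omega)).isZero_homology.eq_of_src l 0, comp_zero]
    have hK := KernelFork.mapIsLimit _ (F.cyclesIsKernel i₀ (i₀ + 1) (by simp)) (ModSite.restr O V)
    let c : (ModSite.restr O V).obj (E.X i₀) ⟶ (ModSite.restr O V).obj (F.cycles i₀) :=
      hK.lift (KernelFork.ofι (α.f i₀) h0)
    have hc : c ≫ (ModSite.restr O V).map (F.iCycles i₀) = α.f i₀ :=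
      hK.fac (KernelFork.ofι (α.f i₀) h0) WalkingParallelPair.zero
    obtain ⟨n, i, π, hi⟩ := hE i₀
    obtain ⟨T, hT, hψ⟩ := exists_res_lift i π hi (F.toCycles (i₀ - 1) i₀) c
    have step : ∀ ⦃W : C⦄ (g : W ⟶ V), T g → ∃ S ∈ J W, ∀ ⦃W' : C⦄ (h : W' ⟶ W), S h →
        Nonempty (Homotopy (cres (h ≫ g) α) 0) := by
      intro W g hg
      obtain ⟨ψ, hψ⟩ := hψ g hg
      have hψ' : ψ ≫ (ModSite.restr O W).map (F.d (i₀ - 1) i₀) = res g (α.f i₀) := by
        rw [← F.toCycles_i (i₀ - 1) i₀, (ModSite.restr O W).map_comp, reassoc_of% hψ,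
          ← res_map g (F.iCycles i₀), ← res_comp, hc]
      let hom : ∀ p q, (ComplexShape.up ℤ).Rel q p → (((R O W).obj E).X p ⟶ ((R O W).obj F).X q) :=
        fun p q hpq => if hp : p = i₀ then
          eqToHom (congrArg (fun t => ((R O W).obj E).X t) hp) ≫ ψ ≫
            eqToHom (congrArg (fun t => ((R O W).obj F).X t) (show i₀ - 1 = q by
              have : q + 1 = p := hpq
              omega)) else 0
      let α' := cres g α - Homotopy.nullHomotopicMap' hom
      have hα' : ∀ i, a + k ≤ i → α'.f i = 0 := by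
        intro i hi
        have r₂₁ : (ComplexShape.up ℤ).Rel (i - 1) i := by simp
        have r₁₀ : (ComplexShape.up ℤ).Rel i (i + 1) := by simp
        simp only [α', HomologicalComplex.sub_f_apply, Homotopy.nullHomotopicMap'_f r₂₁ r₁₀]
        have h₁ : hom (i + 1) i r₁₀ = 0 := dif_neg (by omega)
        rw [h₁, comp_zero, zero_add, sub_eq_zero]
        by_cases hi' : i = i₀
        · subst hi'
          simp only [hom, dif_pos rfl]
          simp only [eqToHom_refl, Category.id_comp, Category.comp_id]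
          exact hψ'.symm
        · simp only [hom, dif_neg hi', zero_comp]
          show res g (α.f i) = 0
          rw [hα i (by omega)]
          exact res_zero g _ _
      obtain ⟨S, hS, hH⟩ := ih α' hα'
      refine ⟨S, hS, fun W' h hh => ?_⟩
      obtain ⟨H⟩ := hH h hh
      rw [← cres_cres]
      have H2 := cresHomotopy h (Homotopy.nullHomotopy' hom)
      have hz : cres h (0 : (R O W).obj E ⟶ (R O W).obj F) = 0 :=
        HomologicalComplex.hom_ext _ _ fun i => res_zero h _ _
      refine ⟨(Homotopy.ofEq ?_).trans ((H.add (H2.trans (Homotopy.ofEq hz))).trans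
        (Homotopy.ofEq (add_zero _)))⟩
      refine HomologicalComplex.hom_ext _ _ fun i => ?_
      show res h ((cres g α).f i) = res h ((cres g α).f i - (Homotopy.nullHomotopicMap' hom).f i) +
        res h ((Homotopy.nullHomotopicMap' hom).f i)
      rw [← res_add, sub_add_cancel]
    choose S hS hS' using step
    refine ⟨Sieve.bind T.arrows fun W g hg => S g hg, J.bind_covering hT fun W g hg => hS g hg, ?_⟩
    rintro W' _ ⟨W, h, g, hg, hh, rfl⟩
    exact hS' g hg h hh

/-- A map from a strictly perfect complex to a complex exact in degrees `≥ a` is locally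
null-homotopic. -/
theorem exists_nullHomotopic {E F : CochainComplex (ModSite.Mod O) ℤ} (α : E ⟶ F)
    (hE : DCoh.IsStrictlyPerfectMod (ModSite.ringSh O) E) (a : ℤ) (hEa : ∀ i, i < a → IsZero (E.X i))
    (hF : ∀ i, a ≤ i → F.ExactAt i) (V : C) :
    ∃ S ∈ J V, ∀ ⦃W : C⦄ (g : W ⟶ V), S g → Nonempty (Homotopy ((R O W).map α) 0) := by
  obtain ⟨⟨a', b, hv⟩, hf⟩ := hE
  obtain ⟨S, hS, hH⟩ := exists_nullHomotopic_aux hf a hEa hF (b + 1 - a).toNat ((R O V).map α)
    (fun i hi => ((ModSite.restr O V).map_isZero (hv i (Or.inr (by omega)))).eq_of_src _ _)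
  refine ⟨S, hS, fun W g hg => ?_⟩
  rw [← cres_map g α]
  exact hH g hg

theorem exists_homotopy_lift {E F G : CochainComplex (ModSite.Mod O) ℤ} (α : E ⟶ F) (f : G ⟶ F)
    (hE : DCoh.IsStrictlyPerfectMod (ModSite.ringSh O) E) (a : ℤ) (hEa : ∀ j : ℤ, j < a → IsZero (E.X j))
    (hf : ∀ j : ℤ, a < j → IsIso (HomologicalComplex.homologyMap f j))
    (hfa : Epi (HomologicalComplex.homologyMap f a)) (V : C) :
    ∃ S ∈ J V, ∀ ⦃W : C⦄ (g : W ⟶ V), S g → ∃ β : (R O W).obj E ⟶ (R O W).obj G,
      Nonempty (Homotopy (β ≫ (R O W).map f) ((R O W).map α)) := by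
  obtain ⟨S, hS, hH⟩ := exists_nullHomotopic (α ≫ CochainComplex.mappingCone.inr f) hE a hEa
    (fun i hi => exactAt_mappingCone f a hf hfa i hi) V
  refine ⟨S, hS, fun W g hg => ?_⟩
  obtain ⟨H⟩ := hH g hg
  let e := CochainComplex.mappingCone.mapHomologicalComplexIso f (ModSite.restr O W)
  exact exists_lift_of_cone _ ((R O W).map f)
    ((Homotopy.ofEq (by rw [Functor.map_comp, Category.assoc]; congr 1
                        exact (CochainComplex.mappingCone.map_inr f _).symm)).trans
      ((H.compRight e.hom).trans (Homotopy.ofEq zero_comp)))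

/-- A morphism in the derived category out of a strictly perfect complex is locally a chain map. -/
theorem exists_represent [HasDerivedCategory.{w} (ModSite.Mod O)]
    [∀ W : C, HasDerivedCategory.{w} (ModSite.Mod (O.over W))]
    [∀ W : C, PreservesFiniteColimits (ModSite.restr O W)]
    {E F : CochainComplex (ModSite.Mod O) ℤ} (hE : DCoh.IsStrictlyPerfectMod (ModSite.ringSh O) E)
    (α : DerivedCategory.Q.obj E ⟶ DerivedCategory.Q.obj F) (V : C) :
    ∃ S ∈ J V, ∀ ⦃W : C⦄ (g : W ⟶ V), S g → ∃ β : (R O W).obj E ⟶ (R O W).obj F,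
      (ModSite.restr O W).mapDerivedCategory.map α =
        (ModSite.restr O W).mapDerivedCategoryFactors.hom.app E ≫ DerivedCategory.Q.map β ≫
          (ModSite.restr O W).mapDerivedCategoryFactors.inv.app F := by
  obtain ⟨Y, φ, s, hs, rfl⟩ := DerivedCategory.left_fac α
  obtain ⟨⟨a, b, hv⟩, -⟩ := id hE
  have hq : QuasiIso s := (DerivedCategory.isIso_Q_map_iff_quasiIso (ModSite.Mod O) s).1 hs
  obtain ⟨S, hS, hl⟩ := exists_homotopy_lift φ s hE a (fun i hi => hv i (Or.inl hi))
    (fun i _ => (quasiIsoAt_iff_isIso_homologyMap s i).1 (hq.quasiIsoAt i))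
    (haveI := (quasiIsoAt_iff_isIso_homologyMap s a).1 (hq.quasiIsoAt a); inferInstance) V
  refine ⟨S, hS, fun W g hg => ?_⟩
  obtain ⟨β, ⟨H⟩⟩ := hl g hg
  refine ⟨β, ?_⟩
  let Φ := (ModSite.restr O W).mapDerivedCategoryFactors
  let D := (ModSite.restr O W).mapDerivedCategory
  have hQ : DerivedCategory.Q.map β ≫ DerivedCategory.Q.map ((R O W).map s) =
      DerivedCategory.Q.map ((R O W).map φ) := by
    rw [← Functor.map_comp]
    exact DerivedCategory.Q_map_eq_of_homotopy (ModSite.Mod (O.over W)) H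
  change D.map (DerivedCategory.Q.map φ ≫ inv (DerivedCategory.Q.map s)) = _
  rw [Functor.map_comp, Functor.map_inv, IsIso.comp_inv_eq, Category.assoc, Category.assoc]
  rw [show Φ.inv.app F ≫ D.map (DerivedCategory.Q.map s) =
    DerivedCategory.Q.map ((R O W).map s) ≫ Φ.inv.app Y from (Φ.inv.naturality s).symm, reassoc_of% hQ]
  exact (NatIso.naturality_2 Φ φ).symm

end Groth.Agent.SiteSP16
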